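import Groth.Agent.H9Quot.Sec
import Groth.Agent.MorLib.FlatBC
import Groth.Agent.SheafHomX.Coherent
import Groth.Agent.GrFlat5.FlatAtIso

/-! Functoriality of the pullback of families of quotients. -/

set_option autoImplicit false
set_option linter.style.haveILetI false
set_option backward.isDefEq.respectTransparency false
set_option backward.isDefEq.respectTransparency.types false

universe u

open CategoryTheory CategoryTheory.Limits AlgebraicGeometry

noncomputable section

namespace Groth.Agent.H9Quot

section general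

variable {T' T T₁ T₀ : Scheme.{u}} (a' : T' ⟶ T) (a : T ⟶ T₁) (b : T₁ ⟶ T₀) (c : T ⟶ T₀) (h : a ≫ b = c)
  (c' : T' ⟶ T₀) (h' : a' ≫ c = c') (a'' : T' ⟶ T₁) (ha : a' ≫ a = a'') (h'' : a'' ≫ b = c')

theorem trIso_trIso (G : T₀.Modules) :
    (Scheme.Modules.pullback a').map ((LimMod.trIso a b c h).hom.app G) ≫ (LimMod.trIso a' c c' h').hom.app G =
      (LimMod.trIso a' a a'' ha).hom.app ((Scheme.Modules.pullback b).obj G) ≫
        (LimMod.trIso a'' b c' h'').hom.app G := by
  subst h ha h'
  have h1 := congr_app (Scheme.Modules.pseudofunctor_associativity (f := a') (g := a) (h := b)) G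
  simp only [NatTrans.comp_app, Functor.whiskerRight_app, Functor.whiskerLeft_app,
    Functor.associator_hom_app] at h1
  simp only [LimMod.trIso, Iso.trans_hom, NatTrans.comp_app, Scheme.Modules.pullbackCongr, eqToIso_refl,
    Iso.refl_hom, NatTrans.id_app, Category.comp_id, eqToIso.hom, eqToHom_app] at h1 ⊢
  erw [Category.id_comp] at h1
  rw [← cancel_epi ((Scheme.Modules.pullback a').map ((Scheme.Modules.pullbackComp a b).inv.app G)),
    ← cancel_epi ((Scheme.Modules.pullbackComp a' (a ≫ b)).inv.app G)]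
  rw [← Functor.map_comp_assoc, Iso.inv_hom_id_app, CategoryTheory.Functor.map_id]
  erw [Category.id_comp, Iso.inv_hom_id_app, h1]
  rfl

include ha h'' in
theorem qimg_qimg (G : T₀.Modules) (K : Subobject ((Scheme.Modules.pullback b).obj G)) :
    qimg a' c c' h' G (qimg a b c h G K) = qimg a'' b c' h'' G K := by
  unfold qimg
  let φ : (Scheme.Modules.pullback a).obj (K : T₁.Modules) ⟶ (Scheme.Modules.pullback c).obj G :=
    (Scheme.Modules.pullback a).map K.arrow ≫ ((LimMod.trIso a b c h).app G).hom
  let m := (Scheme.Modules.pullback a').map (imageSubobject φ).arrow ≫ ((LimMod.trIso a' c c' h').app G).hom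
  let e := (Scheme.Modules.pullback a').map (factorThruImageSubobject φ)
  show imageSubobject m = _
  have he : imageSubobject (e ≫ m) = imageSubobject m := by
    have hle := imageSubobject_comp_le e m
    haveI := imageSubobject_comp_le_epi_of_epi e m
    haveI := isIso_of_mono_of_epi (Subobject.ofLE _ _ hle)
    exact Subobject.eq_of_comm (asIso (Subobject.ofLE _ _ hle)) (Subobject.ofLE_arrow hle)
  have hem : e ≫ m = ((LimMod.trIso a' a a'' ha).app (K : T₁.Modules)).hom ≫
      ((Scheme.Modules.pullback a'').map K.arrow ≫ ((LimMod.trIso a'' b c' h'').app G).hom) := by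
    show (Scheme.Modules.pullback a').map _ ≫ (Scheme.Modules.pullback a').map _ ≫ _ = _
    rw [← Functor.map_comp_assoc, imageSubobject_arrow_comp, Functor.map_comp_assoc, Iso.app_hom, Iso.app_hom,
      Iso.app_hom, Iso.app_hom, trIso_trIso a' a b c h c' h' a'' ha h'', ← Category.assoc, ← Category.assoc]
    exact congrArg (· ≫ (LimMod.trIso a'' b c' h'').hom.app G)
      ((LimMod.trIso a' a a'' ha).hom.naturality K.arrow)
  rw [← he, hem]
  exact imageSubobject_iso_comp _ _

/-- The quotient by the pullback of a submodule is the pullback of the quotient. -/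
theorem nonempty_cokernel_qimg (G : T₀.Modules) (K : Subobject ((Scheme.Modules.pullback b).obj G)) :
    Nonempty (cokernel (qimg a b c h G K).arrow ≅ (Scheme.Modules.pullback a).obj (cokernel K.arrow)) := by
  unfold qimg
  let φ : (Scheme.Modules.pullback a).obj (K : T₁.Modules) ⟶ (Scheme.Modules.pullback c).obj G :=
    (Scheme.Modules.pullback a).map K.arrow ≫ ((LimMod.trIso a b c h).app G).hom
  exact ⟨(cokernelEpiComp (factorThruImageSubobject φ) (imageSubobject φ).arrow).symm ≪≫
    cokernelIsoOfEq (imageSubobject_arrow_comp φ) ≪≫ cokernelCompIsIso _ _ ≪≫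
    (PreservesCokernel.iso (Scheme.Modules.pullback a) K.arrow).symm⟩

end general

variable {X S : Scheme.{u}} (f : X ⟶ S) (E : X.Modules)

theorem XTmap_comp' {T T' T'' : Over S} (g : T' ⟶ T) (g' : T'' ⟶ T') :
    PicF.XTmap f g' ≫ PicF.XTmap f g = PicF.XTmap f (g' ≫ g) := by
  refine pullback.hom_ext ?_ ?_ <;> simp [PicF.XTmap]

/-- Pullback of families of quotients is functorial. -/
theorem quotPull_quotPull {T T' T'' : Over S} (g : T' ⟶ T) (g' : T'' ⟶ T') (K : Subobject (FGA.ET f E T)) :
    FGA.quotPull f E g' (FGA.quotPull f E g K) = FGA.quotPull f E (g' ≫ g) K := by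
  rw [quotPull_eq f E g K, quotPull_eq f E g', quotPull_eq f E (g' ≫ g)]
  exact qimg_qimg (PicF.XTmap f g') (PicF.XTmap f g) (pullback.fst f T.hom) (pullback.fst f T'.hom)
    (FGA.XTmap_fst f g) (pullback.fst f T''.hom) (FGA.XTmap_fst f g') (PicF.XTmap f (g' ≫ g))
    (XTmap_comp' f g g') (FGA.XTmap_fst f (g' ≫ g)) E K

theorem isPullback_XTmap {T T' : Over S} (g : T' ⟶ T) :
    IsPullback (PicF.XTmap f g) (PicF.XTproj f T') (PicF.XTproj f T) g.left := by
  refine IsPullback.of_right (h₁₂ := pullback.fst f T.hom) (v₁₃ := f) (h₂₂ := T.hom) ?_ ?_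
    (IsPullback.of_hasPullback f T.hom)
  · rw [show PicF.XTmap f g ≫ pullback.fst f T.hom = pullback.fst f T'.hom from FGA.XTmap_fst f g,
      show g.left ≫ T.hom = T'.hom from Over.w g]
    exact IsPullback.of_hasPullback f T'.hom
  · simp [PicF.XTmap, PicF.XTproj]

/-- The pullback of a family of quotients is a family of quotients. -/
theorem quotPull_mem {T T' : Over S} (g : T' ⟶ T) (K : Subobject (FGA.ET f E T))
    (hc : Coh.IsCoh (cokernel K.arrow)) (hf : FlatMod.IsFlatOver (PicF.XTproj f T) (cokernel K.arrow)) :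
    Coh.IsCoh (cokernel (FGA.quotPull f E g K).arrow) ∧
      FlatMod.IsFlatOver (PicF.XTproj f T') (cokernel (FGA.quotPull f E g K).arrow) := by
  rw [quotPull_eq f E g K]
  obtain ⟨e⟩ := nonempty_cokernel_qimg (PicF.XTmap f g) (pullback.fst f T.hom) (pullback.fst f T'.hom)
    (FGA.XTmap_fst f g) E K
  have hp : Coh.IsCoh ((Scheme.Modules.pullback (PicF.XTmap f g)).obj (cokernel K.arrow)) :=
    ZClosLib.isCoh_pullback _ hc
  refine ⟨SheafHomX.isCoh_of_iso e.symm hp, fun z => ?_⟩
  exact GrFlat5.isFlatOverAt_of_iso _ e.symm z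
    (MorLib.FlatBC.isFlatOverAt_baseChange (PicF.XTproj f T) (PicF.XTproj f T') (PicF.XTmap f g) g.left
      (isPullback_XTmap f g) _ z (hf _))

end Groth.Agent.H9Quot
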