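import Groth.Prelude.Def_FGA
import Groth.Prelude.Def_ArtFun6
import Groth.Prelude.Def_Omega4
import Groth.Agent.ArtFunLib.HilbSit
import Groth.Agent.ArtFunLib.FamilyHom
import Groth.Agent.LimMod.Tr
import Groth.Agent.QCoh.ClosedPush
import Groth.Agent.QCoh.TensorUnit
import Groth.Agent.QCoh.FlatOver
import Groth.Agent.FlatStrat.Sheaf
import Groth.Agent.ZClosLib.CohDescent

/-! Families of quotients over Artinian bases in terms of sections over the affine opens of `X`. -/

set_option autoImplicit false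
set_option linter.style.haveILetI false
set_option backward.isDefEq.respectTransparency false
set_option backward.isDefEq.respectTransparency.types false

universe u

open CategoryTheory CategoryTheory.Limits AlgebraicGeometry ArtFun ArtFun.Art Opposite

noncomputable section

namespace Groth.Agent.H9Quot

open Groth.Agent.ArtFunLib Groth.Agent.ArtFunLib.HilbAffine

variable {k : Type u} [Field k] {X : Scheme.{u}} (x : X ⟶ specPt k) (E : X.Modules)

/-- The base of the family. -/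
abbrev TT (B : Art k k) : Over (Spec (CommRingCat.of k)) := Over.mk (Art.specOver B)

/-- A morphism of bases. -/
abbrev hm {B A : Art k k} (p : B ⟶ A) : TT (k := k) A ⟶ TT B :=
  Over.homMk (Art.specMap p) (Art.specOver_comp p)

/-- The projection to `X`, with source `X ×_k Spec B`. -/
abbrev pr (B : Art k k) : XA x B ⟶ X := pullback.fst x (specOver B)

/-- `E` over `X ×_k Spec B` (a notation, so that the kernel never has to unfold it). -/
scoped notation:max "EB[" x ", " E ", " B "]" => CategoryTheory.Functor.obj (Scheme.Modules.pullback (pr x B)) E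

/-- The pullback of submodules. -/
abbrev qp {B A : Art k k} (p : B ⟶ A) (K : Subobject (EB[x, E, B])) : Subobject (EB[x, E, A]) :=
  @FGA.quotPull X (Spec (CommRingCat.of k)) x E (TT B) (TT A) (hm p) K

variable {x E}

/-- Restriction of sections along a morphism of bases (a notation, for the kernel's sake). -/
scoped notation:max "res[" x ", " E ", " p ", " U "]" =>
  LimMod.tr (XAmap x p) (pr x _) (pr x _) (XAmap_fst x p) (G := E) (le_of_eq (pi_le x p U))

theorem tr_smul_hom {T T₁ T₀ : Scheme.{u}} (a : T ⟶ T₁) (b : T₁ ⟶ T₀) (c : T ⟶ T₀) (h : a ≫ b = c)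
    (G : T₀.Modules) {O : T₁.Opens} {O' : T.Opens} (hle : O' ≤ a ⁻¹ᵁ O) (r : Γ(T₁, O))
    (z : Γ((Scheme.Modules.pullback b).obj G, O)) :
    LimMod.tr a b c h hle (r • z) = (a.appLE O O' hle).hom r • LimMod.tr a b c h hle z :=
  LimMod.tr_smul a b c h hle r z

theorem pi_eq {B A : Art k k} (p : B ⟶ A) (U : X.affineOpens) :
    HilbAffine.pi x p U = ((XAmap x p).appLE (W x B U).1 (W x A U).1 (le_of_eq (pi_le x p U))).hom := rfl

theorem res_smul {B A : Art k k} (p : B ⟶ A) (U : X.affineOpens) (r : Γ(XA x B, (W x B U).1))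
    (z : Γ(EB[x, E, B], (W x B U).1)) : res[x, E, p, U] (r • z) = pi x p U r • res[x, E, p, U] z :=
  by
  rw [pi_eq]
  exact tr_smul_hom (XAmap x p) (pr x B) (pr x A) (XAmap_fst x p) E (le_of_eq (pi_le x p U)) r z

theorem res_map {B A : Art k k} (p : B ⟶ A) {U U' : X.affineOpens} (h : U'.1 ≤ U.1)
    (z : Γ(EB[x, E, B], (W x B U).1)) :
    res[x, E, p, U'] ((EB[x, E, B]).presheaf.map (homOfLE (W_mono x B h)).op z) =
      (EB[x, E, A]).presheaf.map (homOfLE (W_mono x A h)).op (res[x, E, p, U] z) :=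
  (LimMod.tr_res _ _ _ _ (W_mono x B h) (W_mono x A h) _ _ z).symm

theorem res_comp (hE : Coh.IsQCoh E) {C B A : Art k k} (p : C ⟶ B) (q : B ⟶ A) (U : X.affineOpens)
    (z : Γ(EB[x, E, C], (W x C U).1)) : res[x, E, q, U] (res[x, E, p, U] z) = res[x, E, (p ≫ q), U] z :=
  LimMod.tr_tr (XAmap x p) (pr x C) (pr x B) (XAmap_fst x p) (XAmap x q) (pr x A) (XAmap_fst x q)
    (XAmap x (p ≫ q)) (XAmap_comp x p q).symm (XAmap_fst x (p ≫ q)) hE U.2 (W x C U).2 le_rfl
    (le_of_eq (pi_le x p U)) (le_of_eq (pi_le x q U)) (le_of_eq (pi_le x (p ≫ q) U)) z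

theorem res_id (hE : Coh.IsQCoh E) {B : Art k k} (U : X.affineOpens) (z : Γ(EB[x, E, B], (W x B U).1)) :
    res[x, E, (𝟙 B), U] z = z := by
  refine LimMod.pullSec_induction (pr x B) hE (W x B U).2 U.2 le_rfl
    (fun z => res[x, E, (𝟙 B), U] z = z) (map_zero _) (fun m => ?_) (fun r z hz => ?_) (fun a b ha hb => ?_) z
  · exact LimMod.tr_pullSec _ _ _ _ le_rfl _ le_rfl m
  · rw [res_smul, hz]
    congr 1
    show ((XAmap x (𝟙 B)).appLE _ _ _).hom r = r
    rw [HilbSit.appLE_congr (XAmap_id x B) (W x B U).1 (W x B U).1 _ le_rfl]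
    exact congr($((Scheme.Hom.app_eq_appLE (f := 𝟙 (XA x B)) (U := (W x B U).1)).symm) r)
  · rw [map_add, ha, hb]

theorem surjective_pi {B A : Art k k} (p : B ⟶ A) (hp : Function.Surjective p) (U : X.affineOpens) :
    Function.Surjective (pi x p U) := (pi_spec x p hp U).1

/-- Sections pulled back along a surjection of bases. -/
theorem surjective_pullSec_XAmap {B A : Art k k} (p : B ⟶ A) (hp : Function.Surjective p)
    (M : (XA x B).Modules) (hM : Coh.IsQCoh M) (U : X.affineOpens) :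
    Function.Surjective (QCoh.pullSec (XAmap x p) M (le_of_eq (pi_le x p U))) :=
  ExistEasy.surjective_pullSec (XAmap x p) hM (W x A U).2 (W x B U).2 _ fun c' => by
    obtain ⟨c, rfl⟩ := surjective_pi p hp U c'
    exact ⟨c, fun y => rfl⟩

theorem qcoh_EB (hE : Coh.IsQCoh E) (B : Art k k) : Coh.IsQCoh (EB[x, E, B]) :=
  QCoh.isQCoh_pullback _ hE

theorem exists_pullSec (hE : Coh.IsQCoh E) {B A : Art k k} (p : B ⟶ A) (hp : Function.Surjective p)
    (U : X.affineOpens) (w : Γ((Scheme.Modules.pullback (XAmap x p)).obj EB[x, E, B], (W x A U).1)) :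
    ∃ z, QCoh.pullSec (XAmap x p) EB[x, E, B] (le_of_eq (pi_le x p U)) z = w :=
  surjective_pullSec_XAmap p hp _ (qcoh_EB hE B) U w

theorem res_apply {B A : Art k k} (p : B ⟶ A) (U : X.affineOpens) (z : Γ(EB[x, E, B], (W x B U).1)) :
    res[x, E, p, U] z = ((LimMod.trIso (XAmap x p) (pr x B) (pr x A) (XAmap_fst x p)).hom.app E).app (W x A U).1
      (QCoh.pullSec (XAmap x p) EB[x, E, B] (le_of_eq (pi_le x p U)) z) :=
  LimMod.tr_apply (XAmap x p) (pr x B) (pr x A) (XAmap_fst x p) (G := E) (le_of_eq (pi_le x p U)) z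

theorem exists_trIso {B A : Art k k} (p : B ⟶ A)
    (U : X.affineOpens) (y : Γ(EB[x, E, A], (W x A U).1)) :
    ∃ w, ((LimMod.trIso (XAmap x p) (pr x B) (pr x A) (XAmap_fst x p)).hom.app E).app (W x A U).1 w = y :=
  (LimMod.trIso_app_bijective (XAmap x p) (pr x B) (pr x A) (XAmap_fst x p) E (W x A U).1).2 y

theorem res_surjective (hE : Coh.IsQCoh E) {B A : Art k k} (p : B ⟶ A) (hp : Function.Surjective p)
    (U : X.affineOpens) : Function.Surjective (res[x, E, p, U]) := fun y => by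
  obtain ⟨w, hw⟩ := exists_trIso p U y
  obtain ⟨z, hz⟩ := exists_pullSec hE p hp U w
  exact ⟨z, by rw [res_apply, hz, hw]⟩

/-- `B` acts on sections through the projection. -/
scoped instance modB (B : Art k k) (U : X.affineOpens) : Module B Γ(EB[x, E, B], (W x B U).1) :=
  Module.compHom _ (c x B U)

theorem smul_def {B : Art k k} (U : X.affineOpens) (b : B) (z : Γ(EB[x, E, B], (W x B U).1)) :
    b • z = c x B U b • z := rfl

theorem res_smulB {B A : Art k k} (p : B ⟶ A) (U : X.affineOpens) (b : B)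
    (z : Γ(EB[x, E, B], (W x B U).1)) : res[x, E, p, U] (b • z) = p b • res[x, E, p, U] z := by
  rw [smul_def, res_smul, HilbSit.pi_c, smul_def]

theorem smul_comm_ring {B : Art k k} (U : X.affineOpens) (b : B) (r : Γ(XA x B, (W x B U).1))
    (z : Γ(EB[x, E, B], (W x B U).1)) : b • r • z = r • b • z := by
  rw [smul_def, smul_def, smul_smul, smul_smul, mul_comm]

theorem eq_zero_of_app {Y : Scheme.{u}} {M N : Y.Modules} (f : M ⟶ N) (V : Y.Opens)
    (hf : Function.Injective (f.app V)) {w : Γ(M, V)} (h : f.app V w = 0) : w = 0 :=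
  hf (h.trans (map_zero _).symm)

theorem map_eq_zero_of_mem_smul_top {R M N : Type*} [CommRing R] [AddCommGroup M] [Module R M] [AddCommGroup N]
    (f : M →+ N) (I : Ideal R) (h : ∀ b ∈ I, ∀ m : M, f (b • m) = 0) {z : M} (hz : z ∈ I • (⊤ : Submodule R M)) :
    f z = 0 :=
  Submodule.smul_induction_on hz (fun b hb m _ => h b hb m) fun a b ha hb => by rw [map_add, ha, hb, add_zero]

/-- The kernel of pulling back sections along a map surjective on sections. -/
theorem mem_of_pullSec_eq_zero {P Q : Scheme.{u}} (φ : P ⟶ Q) {M : Q.Modules} (hM : Coh.IsQCoh M)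
    {W' : P.Opens} (hW' : IsAffineOpen W') {V : Q.Opens} (hV : IsAffineOpen V) (hle : W' ≤ φ ⁻¹ᵁ V)
    (hs : Function.Surjective (φ.appLE V W' hle).hom) {R : Type u} [CommRing R] (c' : R →+* Γ(Q, V)) (I : Ideal R)
    (hk : RingHom.ker (φ.appLE V W' hle).hom = I.map c') {z : Γ(M, V)} (hz : QCoh.pullSec φ M hle z = 0) :
    letI : Module R Γ(M, V) := Module.compHom _ c'
    z ∈ I • (⊤ : Submodule R Γ(M, V)) := by
  letI : Module R Γ(M, V) := Module.compHom _ c'
  letI : Algebra Γ(Q, V) Γ(P, W') := (φ.appLE V W' hle).hom.toAlgebra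
  letI : Module Γ(Q, V) Γ((Scheme.Modules.pullback φ).obj M, W') :=
    Module.compHom _ (φ.appLE V W' hle).hom
  haveI : IsScalarTower Γ(Q, V) Γ(P, W') Γ((Scheme.Modules.pullback φ).obj M, W') :=
    ⟨fun a b c => mul_smul ((φ.appLE V W' hle).hom a) b c⟩
  obtain ⟨l, hl, hb⟩ := ExistEasy.exists_pullSec_baseChange φ hM hW' hV hle
  obtain ⟨-, hker⟩ := QCoh.baseChange_surjection hs hb
  have hz' : z ∈ RingHom.ker (algebraMap Γ(Q, V) Γ(P, W')) • (⊤ : Submodule Γ(Q, V) _) := by
    rw [← hker, LinearMap.mem_ker]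
    exact (hl z).trans hz
  rw [show RingHom.ker (algebraMap Γ(Q, V) Γ(P, W')) = I.map c' from hk] at hz'
  refine Submodule.smul_induction_on hz' (fun r hr m _ => ?_) fun a b ha hb => add_mem ha hb
  induction hr using Submodule.span_induction generalizing m with
  | mem r hr =>
    obtain ⟨b, hb, rfl⟩ := hr
    exact Submodule.smul_mem_smul hb Submodule.mem_top
  | zero => rw [zero_smul]; exact zero_mem _
  | add r s _ _ hr hs => rw [add_smul]; exact add_mem (hr m Submodule.mem_top) (hs m Submodule.mem_top)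
  | smul a r _ hr => rw [smul_eq_mul, mul_comm, mul_smul]; exact hr _ Submodule.mem_top

theorem pullSec_eq_zero_of_res {B A : Art k k} (p : B ⟶ A) (U : X.affineOpens)
    {z : Γ(EB[x, E, B], (W x B U).1)} (hz : res[x, E, p, U] z = 0) :
    QCoh.pullSec (XAmap x p) EB[x, E, B] (le_of_eq (pi_le x p U)) z = 0 :=
  eq_zero_of_app ((LimMod.trIso (XAmap x p) (pr x B) (pr x A) (XAmap_fst x p)).hom.app E) (W x A U).1
    (LimMod.trIso_app_bijective (XAmap x p) (pr x B) (pr x A) (XAmap_fst x p) E (W x A U).1).1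
    ((res_apply p U z).symm.trans hz)

theorem res_eq_zero (hE : Coh.IsQCoh E) {B A : Art k k} (p : B ⟶ A) (hp : Function.Surjective p)
    (U : X.affineOpens) {z : Γ(EB[x, E, B], (W x B U).1)} (hz : res[x, E, p, U] z = 0) :
    z ∈ RingHom.ker p.toAlgHom.toRingHom • (⊤ : Submodule B Γ(EB[x, E, B], (W x B U).1)) :=
  mem_of_pullSec_eq_zero (XAmap x p) (qcoh_EB hE B) (W x A U).2 (W x B U).2 (le_of_eq (pi_le x p U))
    (by rw [← pi_eq]; exact surjective_pi p hp U) (c x B U) (RingHom.ker p.toAlgHom.toRingHom)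
    (by rw [← pi_eq]; exact (pi_spec x p hp U).2) (pullSec_eq_zero_of_res p U hz)

theorem res_eq_zero_of_mem {B A : Art k k} (p : B ⟶ A) (U : X.affineOpens)
    {z : Γ(EB[x, E, B], (W x B U).1)}
    (hz : z ∈ RingHom.ker p.toAlgHom.toRingHom • (⊤ : Submodule B Γ(EB[x, E, B], (W x B U).1))) :
    res[x, E, p, U] z = 0 := by
  refine map_eq_zero_of_mem_smul_top res[x, E, p, U] _ (fun b hb m => ?_) hz
  rw [res_smulB, show p b = 0 from hb, zero_smul]

/-- The range on sections of a morphism to `E_B`. -/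
def rng {B : Art k k} {M : (XA x B).Modules} (φ : M ⟶ EB[x, E, B]) (U : X.affineOpens) :
    Submodule B Γ(EB[x, E, B], (W x B U).1) where
  carrier := Set.range (φ.app (W x B U).1)
  add_mem' := by
    rintro _ _ ⟨a, rfl⟩ ⟨b, rfl⟩
    exact ⟨a + b, map_add _ _ _⟩
  zero_mem' := ⟨0, map_zero _⟩
  smul_mem' := by
    rintro b _ ⟨a, rfl⟩
    exact ⟨c x B U b • a, Scheme.Modules.Hom.app_smul φ _ _⟩

theorem smul_mem_rng {B : Art k k} {M : (XA x B).Modules} (φ : M ⟶ EB[x, E, B]) (U : X.affineOpens)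
    (r : Γ(XA x B, (W x B U).1)) {z : Γ(EB[x, E, B], (W x B U).1)} (hz : z ∈ rng φ U) : r • z ∈ rng φ U := by
  obtain ⟨a, rfl⟩ := hz
  exact ⟨r • a, Scheme.Modules.Hom.app_smul φ _ _⟩

theorem map_mem_rng {B : Art k k} {M : (XA x B).Modules} (φ : M ⟶ EB[x, E, B]) {U U' : X.affineOpens}
    (h : U'.1 ≤ U.1) {z : Γ(EB[x, E, B], (W x B U).1)} (hz : z ∈ rng φ U) :
    (EB[x, E, B]).presheaf.map (homOfLE (W_mono x B h)).op z ∈ rng φ U' := by
  obtain ⟨a, rfl⟩ := hz
  exact ⟨M.presheaf.map (homOfLE (W_mono x B h)).op a, QCoh.map_app_comm φ _ a⟩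

/-- The sections of a submodule. -/
abbrev secs {B : Art k k} (K : Subobject (EB[x, E, B])) (U : X.affineOpens) :
    Submodule B Γ(EB[x, E, B], (W x B U).1) :=
  rng K.arrow U

/-- The affine opens of `X ×_k Spec B` come from `X`. -/
theorem exists_W_eq (B : Art k k) (V : (XA x B).affineOpens) : ∃ U : X.affineOpens, W x B U = V := by
  haveI := HilbSit.isAffineHom_incl x B
  exact ⟨⟨XAincl x B ⁻¹ᵁ V.1, V.2.preimage _⟩, Subtype.ext (HilbSit.fst_incl_le x B V.1)⟩

/-- Morphisms agreeing on the affine opens over `X` are equal. -/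
theorem hom_ext_W {B : Art k k} {M N : (XA x B).Modules} (f g : M ⟶ N)
    (h : ∀ (U : X.affineOpens) (s : Γ(M, (W x B U).1)), f.app (W x B U).1 s = g.app (W x B U).1 s) :
    f = g := by
  refine QCoh.hom_ext_app fun V s => FamilyHom.ext_affine N V _ _ fun V' hV' => ?_
  obtain ⟨U, rfl⟩ := exists_W_eq B V'
  rw [← QCoh.map_app_comm f (homOfLE hV') s, ← QCoh.map_app_comm g (homOfLE hV') s]
  exact h U _

/-- A compatible linear family over the affine opens of `X` is a morphism. -/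
theorem exists_hom_W {B : Art k k} {M N : (XA x B).Modules}
    (f : ∀ U : X.affineOpens, Γ(M, (W x B U).1) →+ Γ(N, (W x B U).1))
    (hnat : ∀ (U U' : X.affineOpens) (h : U'.1 ≤ U.1) (s : Γ(M, (W x B U).1)),
      N.presheaf.map (homOfLE (W_mono x B h)).op (f U s) = f U' (M.presheaf.map (homOfLE (W_mono x B h)).op s))
    (hlin : ∀ (U : X.affineOpens) (r : Γ(XA x B, (W x B U).1)) (s : Γ(M, (W x B U).1)),
      f U (r • s) = r • f U s) :
    ∃ φ : M ⟶ N, ∀ (U : X.affineOpens) (s : Γ(M, (W x B U).1)), φ.app (W x B U).1 s = f U s := by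
  choose ι hι using exists_W_eq (x := x) B
  let g : ∀ V : (XA x B).affineOpens, Γ(M, V.1) →+ Γ(N, V.1) := fun V =>
    AddMonoidHom.mk'
      (fun s => N.presheaf.map (homOfLE (congrArg Subtype.val (hι V)).ge).op
        (f (ι V) (M.presheaf.map (homOfLE (congrArg Subtype.val (hι V)).le).op s)))
      fun a b => by rw [map_add, map_add, map_add]
  have hle : ∀ (U U' : X.affineOpens), (W x B U').1 ≤ (W x B U).1 → U'.1 ≤ U.1 := fun U U' h => by
    rw [rho_le x B U', rho_le x B U]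
    exact (XAincl x B).preimage_mono h
  have hg : ∀ (U : X.affineOpens) (s : Γ(M, (W x B U).1)), g (W x B U) s = f U s := fun U s => by
    have h1 : U.1 ≤ (ι (W x B U)).1 := hle _ _ (congrArg Subtype.val (hι (W x B U))).ge
    show N.presheaf.map (homOfLE _).op (f (ι (W x B U)) (M.presheaf.map (homOfLE _).op s)) = f U s
    refine (hnat _ _ h1 _).trans (congrArg (f U) ?_)
    rw [FamilyHom.map_map]
    exact FamilyHom.map_refl M _ s
  obtain ⟨φ, hφ⟩ := FamilyHom.exists_hom_of_family (M := M) (N := N) g (fun V V' h s => by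
    obtain ⟨U, rfl⟩ := exists_W_eq B V
    obtain ⟨U', rfl⟩ := exists_W_eq B V'
    rw [hg, hg]
    exact hnat U U' (hle _ _ h) s) (fun V r s => by
    obtain ⟨U, rfl⟩ := exists_W_eq B V
    rw [hg, hg]
    exact hlin U r s)
  exact ⟨φ, fun U s => (hφ _ s).trans (hg U s)⟩

theorem le_of_secs {B : Art k k} {K K' : Subobject (EB[x, E, B])}
    (h : ∀ U, secs K U ≤ secs K' U) : K ≤ K' := by
  have h0 : K.arrow ≫ cokernel.π K'.arrow = 0 := hom_ext_W _ _ fun U s => by
    obtain ⟨a, ha⟩ := h U ⟨s, rfl⟩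
    show (cokernel.π K'.arrow).app _ (K.arrow.app _ s) = 0
    rw [← ha]
    exact congr(($(cokernel.condition K'.arrow)).app _ a)
  exact Subobject.le_of_comm (Abelian.monoLift K'.arrow K.arrow h0) (Abelian.monoLift_comp _ _ _)

theorem eq_of_secs {B : Art k k} {K K' : Subobject (EB[x, E, B])}
    (h : ∀ U, secs K U = secs K' U) : K = K' :=
  le_antisymm (le_of_secs fun U => (h U).le) (le_of_secs fun U => (h U).ge)

theorem qcoh_of_quot (hE : Coh.IsQCoh E) {B : Art k k} (K : Subobject (EB[x, E, B]))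
    (hK : Coh.IsQCoh (cokernel K.arrow)) : Coh.IsQCoh (K : (XA x B).Modules) :=
  (QCoh.isQCoh_iff_iso (IsLimit.conePointUniqueUpToIso
    (Abelian.monoIsKernelOfCokernel _ (cokernelIsCokernel K.arrow)) (kernelIsKernel _))).2
    (QCoh.isQCoh_kernel (qcoh_EB hE B) hK _)

theorem mem_secs_iff {B : Art k k} (K : Subobject (EB[x, E, B])) (U : X.affineOpens)
    (y : Γ(EB[x, E, B], (W x B U).1)) :
    y ∈ secs K U ↔ (cokernel.π K.arrow).app (W x B U).1 y = 0 := by
  refine ⟨fun ⟨a, ha⟩ => ha ▸ congr(($(cokernel.condition K.arrow)).app _ a), fun h => ?_⟩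
  let e := IsLimit.conePointUniqueUpToIso
    (Abelian.monoIsKernelOfCokernel _ (cokernelIsCokernel K.arrow)) (kernelIsKernel (cokernel.π K.arrow))
  refine ⟨e.inv.app (W x B U).1 (OmegaSh.kerLift _ _ y h), ?_⟩
  have he : e.inv ≫ K.arrow = kernel.ι (cokernel.π K.arrow) :=
    IsLimit.conePointUniqueUpToIso_inv_comp _ _ WalkingParallelPair.zero
  refine (congr(($he).app (W x B U).1 _)).trans ?_
  exact OmegaSh.ι_kerLift _ _ y h

theorem secs_imageSubobject (hE : Coh.IsQCoh E) {B : Art k k} {M : (XA x B).Modules}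
    (hM : Coh.IsQCoh M) (φ : M ⟶ EB[x, E, B]) (U : X.affineOpens) :
    secs (imageSubobject φ) U = rng φ U := by
  apply le_antisymm
  · rintro _ ⟨a, rfl⟩
    have hI : Coh.IsQCoh (imageSubobject φ : (XA x B).Modules) :=
      (QCoh.isQCoh_iff_iso (imageSubobjectIso φ ≪≫ (Abelian.imageIsoImage φ).symm)).2
        (QCoh.isQCoh_kernel (qcoh_EB hE B) (QCoh.isQCoh_cokernel hM (qcoh_EB hE B) φ) _)
    obtain ⟨b, rfl⟩ := QCoh.app_surjective_of_epi hM hI (factorThruImageSubobject φ) (W x B U).2 a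
    exact ⟨b, (congr(($(imageSubobject_arrow_comp φ)).app (W x B U).1 b)).symm⟩
  · rintro _ ⟨b, rfl⟩
    exact ⟨(factorThruImageSubobject φ).app _ b, congr(($(imageSubobject_arrow_comp φ)).app (W x B U).1 b)⟩

/-- The image in `c^* G` of the inverse image of a submodule of `b^* G`. -/
def qimg {T T₁ T₀ : Scheme.{u}} (a : T ⟶ T₁) (b : T₁ ⟶ T₀) (c : T ⟶ T₀) (h : a ≫ b = c) (G : T₀.Modules)
    (K : Subobject ((Scheme.Modules.pullback b).obj G)) : Subobject ((Scheme.Modules.pullback c).obj G) :=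
  imageSubobject ((Scheme.Modules.pullback a).map K.arrow ≫ ((LimMod.trIso a b c h).app G).hom)

theorem quotPull_eq {Y S : Scheme.{u}} (f : Y ⟶ S) (F : Y.Modules) {T T' : Over S} (g : T' ⟶ T) (K : Subobject (FGA.ET f F T)) :
    FGA.quotPull f F g K = qimg (PicF.XTmap f g) (pullback.fst f T.hom) (pullback.fst f T'.hom) (FGA.XTmap_fst f g) F K := rfl

theorem qp_eq {B A : Art k k} (p : B ⟶ A) (K : Subobject (EB[x, E, B])) :
    qp x E p K = qimg (XAmap x p) (pr x B) (pr x A) (XAmap_fst x p) E K :=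
  @quotPull_eq X (Spec (CommRingCat.of k)) x E (TT B) (TT A) (hm p) K

theorem comp_trIso_app {T T₁ T₀ : Scheme.{u}} (a : T ⟶ T₁) (b : T₁ ⟶ T₀) (c : T ⟶ T₀) (h : a ≫ b = c)
    (G : T₀.Modules) {M : T₁.Modules} (φ : M ⟶ (Scheme.Modules.pullback b).obj G) {O : T₁.Opens} {O' : T.Opens}
    (hle : O' ≤ a ⁻¹ᵁ O) (s : Γ(M, O)) :
    ((Scheme.Modules.pullback a).map φ ≫ ((LimMod.trIso a b c h).app G).hom).app O' (QCoh.pullSec a M hle s) =
      LimMod.tr a b c h hle (φ.app O s) := by
  rw [LimMod.tr_apply, ← ExistEasy.pullSec_natural]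
  rfl

theorem mem_rng_iff_of_surjective {T T₁ : Scheme.{u}} {M : T₁.Modules} {N : T.Modules} {a : T ⟶ T₁}
    (ψ : (Scheme.Modules.pullback a).obj M ⟶ N) {O : T₁.Opens} {O' : T.Opens} (hle : O' ≤ a ⁻¹ᵁ O)
    (hs : Function.Surjective (QCoh.pullSec a M hle)) (g : Γ(M, O) → Γ(N, O'))
    (hg : ∀ s, ψ.app O' (QCoh.pullSec a M hle s) = g s) (y : Γ(N, O')) :
    y ∈ Set.range (ψ.app O') ↔ ∃ s, g s = y := by
  constructor
  · rintro ⟨w, rfl⟩
    obtain ⟨s, rfl⟩ := hs w
    exact ⟨s, (hg s).symm⟩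
  · rintro ⟨s, rfl⟩
    exact ⟨_, hg s⟩

theorem mem_secs_qimg {B A : Art k k} (p : B ⟶ A) (hE : Coh.IsQCoh E) (hp : Function.Surjective p)
    (K : Subobject (EB[x, E, B])) (hK : Coh.IsQCoh (Subobject.underlying.obj K)) (U : X.affineOpens)
    (y : Γ(EB[x, E, A], (W x A U).1)) :
    y ∈ secs (qimg (XAmap x p) (pr x B) (pr x A) (XAmap_fst x p) E K) U ↔
      ∃ n ∈ secs K U, res[x, E, p, U] n = y := by
  unfold qimg
  rw [show secs _ U = _ from secs_imageSubobject hE (QCoh.isQCoh_pullback _ hK) _ U]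
  refine Iff.trans (mem_rng_iff_of_surjective _ (le_of_eq (pi_le x p U))
    (surjective_pullSec_XAmap p hp _ hK U) (fun s => res[x, E, p, U] (K.arrow.app (W x B U).1 s))
    (fun s => comp_trIso_app (XAmap x p) (pr x B) (pr x A) (XAmap_fst x p) E K.arrow (le_of_eq (pi_le x p U)) s) y) ?_
  exact ⟨fun ⟨s, hs⟩ => ⟨_, ⟨s, rfl⟩, hs⟩, fun ⟨n, hn, hy⟩ => by obtain ⟨s, rfl⟩ := hn; exact ⟨s, hy⟩⟩

theorem mem_secs_qp (hE : Coh.IsQCoh E) {B A : Art k k} (p : B ⟶ A) (hp : Function.Surjective p)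
    (K : Subobject (EB[x, E, B])) (hK : Coh.IsQCoh (Subobject.underlying.obj K)) (U : X.affineOpens)
    (y : Γ(EB[x, E, A], (W x A U).1)) :
    y ∈ secs (qp x E p K) U ↔ ∃ n ∈ secs K U, res[x, E, p, U] n = y := by
  rw [qp_eq]
  exact mem_secs_qimg p hE hp K hK U y

theorem qp_qp (hE : Coh.IsQCoh E) {C B A : Art k k} (p : C ⟶ B) (hp : Function.Surjective p)
    (q : B ⟶ A) (hq : Function.Surjective q) (K : Subobject (EB[x, E, C]))
    (hK : Coh.IsQCoh (Subobject.underlying.obj K)) (hpK : Coh.IsQCoh (Subobject.underlying.obj (qp x E p K))) :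
    qp x E q (qp x E p K) = qp x E (p ≫ q) K := by
  refine eq_of_secs fun U => SetLike.ext fun y => ?_
  rw [mem_secs_qp hE q hq _ hpK, mem_secs_qp hE (p ≫ q) (surjective_comp hp hq) K hK]
  constructor
  · rintro ⟨n, hn, rfl⟩
    obtain ⟨m, hm, rfl⟩ := (mem_secs_qp hE p hp K hK U n).1 hn
    exact ⟨m, hm, (res_comp hE p q U m).symm⟩
  · rintro ⟨m, hm, rfl⟩
    exact ⟨_, (mem_secs_qp hE p hp K hK U _).2 ⟨m, hm, rfl⟩, res_comp hE p q U m⟩

theorem flat_of_bijective {R S : Type u} [CommRing R] [CommRing S] (f : R →+* S)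
    (hf : Function.Bijective f) (M : Type u) [AddCommGroup M] [Module R M] [Module S M]
    (h : ∀ r (m : M), r • m = f r • m) : Module.Flat S M ↔ Module.Flat R M := by
  constructor
  · intro hS
    letI := f.toAlgebra
    haveI : IsScalarTower R S M := .of_algebraMap_smul fun r m => (h r m).symm
    haveI : Module.Flat R S := RingHom.Flat.of_bijective hf
    exact Module.Flat.trans R S M
  · intro hR
    let g := (RingEquiv.ofBijective f hf).symm.toRingHom
    letI := g.toAlgebra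
    haveI : IsScalarTower S R M := .of_algebraMap_smul fun s m => by
      show g s • m = s • m
      rw [h]
      congr 1
      exact (RingEquiv.ofBijective f hf).apply_symm_apply s
    haveI : Module.Flat S R := RingHom.Flat.of_bijective (RingEquiv.ofBijective f hf).symm.bijective
    exact Module.Flat.trans S R M

theorem bijective_ΓSpec (B : Art k k) :
    Function.Bijective (Scheme.ΓSpecIso (CommRingCat.of B)).inv :=
  ConcreteCategory.bijective_of_isIso _

theorem isFlatOver_EB (hE : Coh.IsQCoh E) (B : Art k k) : FlatMod.IsFlatOver (XApr x B) (EB[x, E, B]) := by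
  intro z
  obtain ⟨_, ⟨U, hU, rfl⟩, hzU, -⟩ := X.isBasis_affineOpens.exists_subset_of_mem_open
    (Set.mem_univ (pullback.fst x (specOver B) z)) isOpen_univ
  refine FlatStrat.isFlatOverAt_pullback (IsPullback.of_hasPullback x (specOver B)) hE
    (isAffineOpen_top (specPt k)) hU (fun _ _ => trivial) (isAffineOpen_top (spec B))
    (fun _ _ => trivial) z hzU trivial ?_
  letI : Algebra Γ(specPt k, ⊤) Γ(spec B, ⊤) :=
    ((specOver B).appLE ⊤ ⊤ (fun _ _ => trivial)).hom.toAlgebra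
  letI : Module Γ(specPt k, ⊤) Γ(E, U) := Module.compHom _ (x.appLE ⊤ U (fun _ _ => trivial)).hom
  have hF : IsField Γ(specPt k, ⊤) := MulEquiv.isField (Field.toIsField k)
    (Scheme.ΓSpecIso (CommRingCat.of k)).commRingCatIsoToRingEquiv.toMulEquiv
  letI := hF.toField
  haveI : Module.Flat Γ(specPt k, ⊤) Γ(E, U) := inferInstance
  exact Module.Flat.baseChange _ _ _

theorem flat_EB (hE : Coh.IsQCoh E) (B : Art k k) (U : X.affineOpens) :
    Module.Flat B Γ(EB[x, E, B], (W x B U).1) := by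
  letI : Module Γ(spec B, ⊤) Γ(EB[x, E, B], (W x B U).1) :=
    Module.compHom _ ((XApr x B).appLE ⊤ (W x B U).1 (fun _ _ => trivial)).hom
  have h := (QCoh.flat_appLE_iff (XApr x B) (qcoh_EB hE B) (W x B U).2 (isAffineOpen_top _)
    (fun _ _ => trivial)).2 fun z _ => isFlatOver_EB hE B z
  exact (flat_of_bijective _ (bijective_ΓSpec B) Γ(EB[x, E, B], (W x B U).1) fun _ _ => rfl).1 h

/-- Flatness of the quotient, on sections. -/
theorem flat_quot_iff (hE : Coh.IsQCoh E) {B : Art k k} (K : Subobject (EB[x, E, B]))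
    (hK : Coh.IsQCoh (cokernel K.arrow)) :
    FlatMod.IsFlatOver (XApr x B) (cokernel K.arrow) ↔
      ∀ U, Module.Flat B (Γ(EB[x, E, B], (W x B U).1) ⧸ secs K U) := by
  have key : ∀ U : X.affineOpens, Module.Flat B (Γ(EB[x, E, B], (W x B U).1) ⧸ secs K U) ↔
      ∀ z ∈ (W x B U).1, FlatMod.IsFlatOverAt (XApr x B) (cokernel K.arrow) z := by
    intro U
    rw [← QCoh.flat_appLE_iff (XApr x B) hK (W x B U).2 (isAffineOpen_top _) (fun _ _ => trivial)]
    letI : Module Γ(spec B, ⊤) Γ(cokernel K.arrow, (W x B U).1) :=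
      Module.compHom _ ((XApr x B).appLE ⊤ (W x B U).1 (fun _ _ => trivial)).hom
    letI : Module B Γ(cokernel K.arrow, (W x B U).1) := Module.compHom _ (c x B U)
    let π : Γ(EB[x, E, B], (W x B U).1) →ₗ[B] Γ(cokernel K.arrow, (W x B U).1) :=
      { toFun := (cokernel.π K.arrow).app (W x B U).1
        map_add' := map_add ((cokernel.π K.arrow).app (W x B U).1).hom
        map_smul' := fun b z => Scheme.Modules.Hom.app_smul (cokernel.π K.arrow) (c x B U b) z }
    have hπ : Function.Surjective π :=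
      QCoh.app_surjective_of_epi (qcoh_EB hE B) hK (cokernel.π K.arrow) (W x B U).2
    have hk : LinearMap.ker π = secs K U := SetLike.ext fun y => (mem_secs_iff K U y).symm
    let e : (Γ(EB[x, E, B], (W x B U).1) ⧸ secs K U) ≃ₗ[B] Γ(cokernel K.arrow, (W x B U).1) :=
      (Submodule.quotEquivOfEq _ _ hk.symm).trans (π.quotKerEquivOfSurjective hπ)
    rw [flat_of_bijective _ (bijective_ΓSpec B) Γ(cokernel K.arrow, (W x B U).1) fun _ _ => rfl]
    exact ⟨fun _ => Module.Flat.of_linearEquiv e.symm, fun _ => Module.Flat.of_linearEquiv e⟩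
  refine ⟨fun h U => (key U).2 fun z _ => h z, fun h z => ?_⟩
  have hz : z ∈ (⊤ : (XA x B).Opens) := trivial
  rw [← iSup_W x B] at hz
  obtain ⟨U, hU⟩ := TopologicalSpace.Opens.mem_iSup.1 hz
  exact (key U).1 (h U) z hU

theorem flat_secs (hE : Coh.IsQCoh E) {B : Art k k} (K : FGA.QuotSet x E (TT B)) (U : X.affineOpens) :
    Module.Flat B (Γ(EB[x, E, B], (W x B U).1) ⧸ secs (K.1 : Subobject (EB[x, E, B])) U) :=
  (flat_quot_iff hE (K.1 : Subobject (EB[x, E, B])) K.2.1.1).1 K.2.2 U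

theorem qcoh_quotSet (hE : Coh.IsQCoh E) {B : Art k k} (K : FGA.QuotSet x E (TT B)) :
    Coh.IsQCoh (Subobject.underlying.obj (K.1 : Subobject (EB[x, E, B]))) :=
  qcoh_of_quot hE (K.1 : Subobject (EB[x, E, B])) K.2.1.1

end Groth.Agent.H9Quot
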